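import Groth.Prelude.Def_CAlgX
import Mathlib.RingTheory.MvPolynomial.Homogeneous
import Mathlib.RingTheory.Ideal.Cotangent
import Mathlib.LinearAlgebra.Matrix.NonsingularInverse
import Mathlib.RingTheory.Nakayama

/-!
Quasi-regularity does not depend on the generators, for a given number of generators.
-/

set_option autoImplicit false

universe u

open MvPolynomial

namespace Groth.Agent.QReg3

variable {A : Type u} [CommRing A] {n : ℕ}

/-- The linear substitution attached to a matrix. -/
noncomputable def subst (R : Type u) [CommRing R] (a : Matrix (Fin n) (Fin n) R) :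
    MvPolynomial (Fin n) R →ₐ[R] MvPolynomial (Fin n) R :=
  aeval fun i => ∑ j, C (a i j) * X j

theorem subst_mul {R : Type u} [CommRing R] (a b : Matrix (Fin n) (Fin n) R) :
    (subst R b).comp (subst R a) = subst R (a * b) := by
  refine algHom_ext fun i => ?_
  simp only [subst, AlgHom.comp_apply, aeval_X, map_sum, map_mul, aeval_C, Finset.mul_sum, Matrix.mul_apply,
    Finset.sum_mul, algebraMap_eq]
  rw [Finset.sum_comm]
  simp only [mul_assoc]

theorem subst_one {R : Type u} [CommRing R] : subst R (1 : Matrix (Fin n) (Fin n) R) = AlgHom.id R _ := by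
  classical
  refine algHom_ext fun i => ?_
  simp [subst, Matrix.one_apply]

theorem eval_linear (c g : Fin n → A) : eval g (∑ j, C (c j) * X j) = ∑ j, c j * g j := by
  simp

theorem coeff_linear (c : Fin n → A) (j : Fin n) : coeff (Finsupp.single j 1) (∑ k, C (c k) * X k) = c j := by
  classical
  simp [coeff_sum, coeff_X, Finsupp.single_eq_single_iff, Finset.sum_ite_eq']

theorem mem_of_linear {f : Fin n → A} (hf : CAlgX.IsQuasiRegular f) (c : Fin n → A)
    (hc : ∑ j, c j * f j ∈ Ideal.span (Set.range f) ^ 2) (j : Fin n) : c j ∈ Ideal.span (Set.range f) := by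
  have h := hf 1 (∑ j, C (c j) * X j)
    (IsHomogeneous.sum _ _ 1 fun j _ => (isHomogeneous_X A j).C_mul (c j)) (by rwa [eval_linear]) (Finsupp.single j 1)
  rwa [coeff_linear] at h

theorem isQuasiRegular_of_span_eq (f f' : Fin n → A)
    (hf : CAlgX.IsQuasiRegular f) (h : Ideal.span (Set.range f') = Ideal.span (Set.range f)) :
    CAlgX.IsQuasiRegular f' := by
  classical
  intro t P hP hev d
  have h1 : ∀ i, ∃ a : Fin n → A, ∑ j, a j * f j = f' i := fun i =>
    (Submodule.mem_span_range_iff_exists_fun A).mp (h.le (Ideal.subset_span ⟨i, rfl⟩))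
  have h2 : ∀ i, ∃ a : Fin n → A, ∑ j, a j * f' j = f i := fun i =>
    (Submodule.mem_span_range_iff_exists_fun A).mp (h.ge (Ideal.subset_span ⟨i, rfl⟩))
  choose a ha using h1
  choose b hb using h2
  let J := Ideal.span (Set.range f)
  let π := Ideal.Quotient.mk J
  have hba : (Matrix.of b).map π * (Matrix.of a).map π = 1 := by
    rw [← Matrix.map_mul]
    ext i j
    rw [Matrix.map_apply, ← (Matrix.map_one π (map_zero π) (map_one π)), Matrix.map_apply, Ideal.Quotient.eq]
    refine mem_of_linear hf (fun j => (Matrix.of b * Matrix.of a) i j - (1 : Matrix (Fin n) (Fin n) A) i j) ?_ j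
    have e : ∑ j, ((Matrix.of b * Matrix.of a) i j - (1 : Matrix (Fin n) (Fin n) A) i j) * f j = 0 := by
      simp only [sub_mul, Finset.sum_sub_distrib, Matrix.mul_apply, Finset.sum_mul, Matrix.of_apply, mul_assoc]
      rw [Finset.sum_comm]
      simp only [← Finset.mul_sum, ha, hb]
      simp [Matrix.one_apply]
    rw [e]
    exact zero_mem _
  have hab : (Matrix.of a).map π * (Matrix.of b).map π = 1 := mul_eq_one_comm.mp hba
  let Q := subst A (Matrix.of a) P
  have hQev : eval f Q = eval f' P := by
    simp only [Q, subst]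
    rw [← aeval_eq_eval, ← aeval_eq_eval, ← AlgHom.comp_apply]
    refine DFunLike.congr_fun (algHom_ext fun i => ?_) P
    simp [ha]
  have hQ : Q.IsHomogeneous t := by
    have := hP.aeval (fun i => ∑ j, C (Matrix.of a i j) * X j) (n := 1)
      (fun i => IsHomogeneous.sum _ _ 1 fun j _ => (isHomogeneous_X A j).C_mul _)
    rwa [one_mul] at this
  have h0 : MvPolynomial.map π Q = 0 := by
    ext e
    rw [coeff_map, coeff_zero]
    refine Ideal.Quotient.eq_zero_iff_mem.mpr (hf t Q hQ ?_ e)
    rw [hQev]
    rwa [← h]
  have hcomm : (MvPolynomial.map π).comp (subst A (Matrix.of a)).toRingHom =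
      (subst (A ⧸ J) ((Matrix.of a).map π)).toRingHom.comp (MvPolynomial.map π) := by
    refine ringHom_ext (fun x => ?_) fun i => ?_
    · simp [subst]
    · simp [subst]
  have hmapQ : MvPolynomial.map π Q = subst (A ⧸ J) ((Matrix.of a).map π) (MvPolynomial.map π P) :=
    DFunLike.congr_fun hcomm P
  have hP0 : MvPolynomial.map π P = 0 := by
    have := congrArg (fun φ => φ (MvPolynomial.map π P)) (subst_mul ((Matrix.of a).map π) ((Matrix.of b).map π))
    simp only [AlgHom.comp_apply, hab, subst_one, AlgHom.id_apply, ← hmapQ, h0, map_zero] at this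
    exact this.symm
  have := congrArg (coeff d) hP0
  rw [coeff_map, coeff_zero] at this
  rw [h]
  exact Ideal.Quotient.eq_zero_iff_mem.mp this

end Groth.Agent.QReg3
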