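import Groth.Agent.Lib.QReg.Basic
import Mathlib.RingTheory.Filtration

/-!
`J ∩ Iⁿ` for a sequence generating `I` which is regular modulo `J`.
-/

set_option autoImplicit false

universe u

open MvPolynomial

namespace Groth.Agent.QReg3

variable {A : Type u} [CommRing A] (J : Ideal A) {r : ℕ} (f : Fin r → A)

theorem quasiRegular_quotient (hf : RingTheory.Sequence.IsWeaklyRegular (A ⧸ J) (List.ofFn f)) :
    CAlgX.IsQuasiRegular (fun i => Ideal.Quotient.mk J (f i)) := by
  refine QReg.isQuasiRegular_of_isH1Regular (QReg.isH1Regular_of_isWeaklyRegular _ ?_)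
  have h := (RingTheory.Sequence.isWeaklyRegular_map_algebraMap_iff (A ⧸ J) (A ⧸ J) (List.ofFn f)).mpr hf
  rwa [List.map_ofFn] at h

theorem eval_mem_pow {n : ℕ} {P : MvPolynomial (Fin r) A} (hP : P.IsHomogeneous n) :
    eval f P ∈ Ideal.span (Set.range f) ^ n := by
  rw [P.as_sum, map_sum]
  refine sum_mem fun d hd => ?_
  rw [eval_monomial]
  refine Ideal.mul_mem_left _ _ ?_
  have hdeg : d.degree = n := by
    exact (DFunLike.congr_fun Finsupp.degree_eq_weight_one d).trans (hP (mem_support_iff.mp hd))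
  rw [← hdeg, Finsupp.degree_apply, ← Finset.prod_pow_eq_pow_sum]
  exact Ideal.prod_mem_prod fun i _ => Ideal.pow_mem_pow (Ideal.subset_span (Set.mem_range_self i)) _

theorem inf_pow_eq_succ (hf : RingTheory.Sequence.IsWeaklyRegular (A ⧸ J) (List.ofFn f)) (n : ℕ) :
    J ⊓ Ideal.span (Set.range f) ^ n =
      J * Ideal.span (Set.range f) ^ n ⊔ J ⊓ Ideal.span (Set.range f) ^ (n + 1) := by
  set I := Ideal.span (Set.range f) with hI
  refine le_antisymm ?_ (sup_le (le_inf Ideal.mul_le_left Ideal.mul_le_right)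
    (inf_le_inf_left _ (Ideal.pow_le_pow_right n.le_succ)))
  rintro x ⟨hxJ, hxI⟩
  obtain ⟨P, hP, rfl⟩ := QReg.exists_homogeneous_of_mem_pow hxI
  let q := Ideal.Quotient.mk J
  have hc : ∀ d, P.coeff d ∈ J ⊔ I := fun d => by
    have h0 : eval (fun i => q (f i)) (MvPolynomial.map q P) = 0 := by
      rw [eval_map, show (fun i => q (f i)) = q ∘ f from rfl, ← eval₂_comp]
      exact Ideal.Quotient.eq_zero_iff_mem.mpr hxJ
    have h := quasiRegular_quotient J f hf n _ (hP.map q) (h0 ▸ zero_mem _) d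
    rw [coeff_map, show (fun i => Ideal.Quotient.mk J (f i)) = q ∘ f from rfl, Set.range_comp, ← Ideal.map_span,
      ← Ideal.mem_comap, Ideal.comap_map_of_surjective _ Ideal.Quotient.mk_surjective, ← RingHom.ker_eq_comap_bot,
      Ideal.mk_ker] at h
    rwa [sup_comm]
  have hx : eval f P ∈ J * I ^ n ⊔ I ^ (n + 1) := by
    rw [pow_succ', ← Ideal.sup_mul, P.as_sum, map_sum]
    refine sum_mem fun d hd => ?_
    rw [eval_monomial]
    refine Ideal.mul_mem_mul (hc d) ?_
    have hm : (monomial d (1 : A)).IsHomogeneous n := isHomogeneous_monomial _ (by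
      exact (DFunLike.congr_fun Finsupp.degree_eq_weight_one d).trans (hP (mem_support_iff.mp hd)))
    have := eval_mem_pow f hm
    rwa [eval_monomial, one_mul] at this
  obtain ⟨y, hy, z, hz, e⟩ := Submodule.mem_sup.mp hx
  rw [← e]
  refine Submodule.add_mem_sup hy ⟨?_, hz⟩
  have : z = eval f P - y := by rw [← e]; ring
  rw [this]
  exact sub_mem hxJ (Ideal.mul_le_left hy)

theorem inf_pow_eq (hf : RingTheory.Sequence.IsWeaklyRegular (A ⧸ J) (List.ofFn f)) {n N : ℕ} (hnN : n ≤ N) :
    J ⊓ Ideal.span (Set.range f) ^ n =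
      J * Ideal.span (Set.range f) ^ n ⊔ J ⊓ Ideal.span (Set.range f) ^ N := by
  induction N, hnN using Nat.le_induction with
  | base => exact (sup_eq_right.mpr (le_inf Ideal.mul_le_left Ideal.mul_le_right)).symm
  | succ N hnN ih =>
    rw [ih, inf_pow_eq_succ J f hf N, ← sup_assoc,
      sup_eq_left.mpr (Ideal.mul_mono_right (Ideal.pow_le_pow_right hnN) :
        J * Ideal.span (Set.range f) ^ N ≤ J * Ideal.span (Set.range f) ^ n)]

theorem inf_pow_eq_mul [IsNoetherianRing A] (hf : RingTheory.Sequence.IsWeaklyRegular (A ⧸ J) (List.ofFn f)) (n : ℕ) :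
    J ⊓ Ideal.span (Set.range f) ^ n = J * Ideal.span (Set.range f) ^ n := by
  set I := Ideal.span (Set.range f) with hI
  obtain ⟨k, hk⟩ := I.exists_pow_inf_eq_pow_smul (M := A) J
  refine le_antisymm ((inf_pow_eq J f hf (Nat.le_add_right n k)).le.trans (sup_le le_rfl ?_))
    (le_inf Ideal.mul_le_left Ideal.mul_le_right)
  have h := hk (n + k) (Nat.le_add_left _ _)
  simp only [smul_eq_mul, Ideal.mul_top, Nat.add_sub_cancel] at h
  rw [inf_comm, h, mul_comm]
  exact Ideal.mul_mono_left inf_le_right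

end Groth.Agent.QReg3
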